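import Mathlib
import Groth.Agent.RegularLocal.GlobalDim
import Groth.Agent.RegSeq.SameSpan

/-! Ferrand–Vasconcelos: finite projective dimension + free conormal module gives a regular ideal. -/

set_option autoImplicit false
universe u

open CategoryTheory IsLocalRing RingTheory.Sequence
open Groth.Agent.RegularLocal.Basic
open scoped Pointwise TensorProduct

namespace Groth.Agent.LeadFV

open Groth.Agent.RegularLocal.GlobalDim

/-- generators of `I` all of whose relations have coefficients in `I` -/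
def Indep {R : Type u} [CommRing R] (I : Ideal R) {ι : Type} [Fintype ι] (a : ι → R) : Prop :=
  ∀ c : ι → R, ∑ i, c i * a i = 0 → ∀ i, c i ∈ I

theorem exists_nzd {R : Type u} [CommRing R] [IsLocalRing R] [IsNoetherianRing R]
    (I : Ideal R) (hIm : I ≤ maximalIdeal R) (hI : I ≠ ⊥) (n : ℕ)
    (hpd : HasProjectiveDimensionLT (ModuleCat.of R I) (n + 1))
    {ι : Type} [Fintype ι] [Nonempty ι] (a : ι → R) (hspan : Ideal.span (Set.range a) = I)
    (hind : Indep I a) :
    ∃ x ∈ I, x ∉ maximalIdeal R * I ∧ x ∈ nonZeroDivisors R := by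
  classical
  have hfin := associatedPrimes.finite R R
  have hsq : ¬ I ≤ maximalIdeal R * I := by
    intro h
    exact hI (Submodule.eq_bot_of_le_smul_of_le_jacobson_bot (maximalIdeal R) _
      (IsNoetherian.noetherian I) (by rwa [smul_eq_mul]) (maximalIdeal_le_jacobson ⊥))
  have hpd' : HasProjectiveDimensionLT (ModuleCat.of R (R ⧸ I)) (n + 2) :=
    (pdLT_syzygy I.mkQ I.mkQ_surjective n).2 (pdLT_congr (LinearEquiv.ofEq _ _ I.ker_mkQ.symm) hpd)
  have hass : ∀ P ∈ associatedPrimes R R, ¬ I ≤ P := by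
    intro P hP hle
    obtain ⟨hPp, z, hz⟩ := isAssociatedPrime_iff.1 hP
    haveI := hPp
    let L := Localization.AtPrime P
    haveI : IsNoetherianRing L := IsLocalization.isNoetherianRing P.primeCompl L inferInstance
    haveI : Module.Flat R L := IsLocalization.flat _ P.primeCompl
    have hzP : ∀ b ∈ P, b * z = 0 := fun b hb => by
      have := hz ▸ hb
      simpa [Submodule.mem_colon_singleton] using this
    have hz0 : algebraMap R L z ≠ 0 := by
      intro h
      obtain ⟨m, hm⟩ := (IsLocalization.map_eq_zero_iff P.primeCompl L z).1 h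
      refine m.2 ?_
      show (m : R) ∈ (P : Set R)
      rw [SetLike.mem_coe, SetLike.ext_iff.1 hz, Submodule.mem_colon_singleton]
      simpa using hm
    have hzm : ∀ b ∈ maximalIdeal L, b * algebraMap R L z = 0 := by
      intro b hb
      rw [← IsLocalization.AtPrime.map_eq_maximalIdeal P L] at hb
      obtain ⟨⟨⟨b', hb'⟩, s⟩, hs⟩ := (IsLocalization.mem_map_algebraMap_iff P.primeCompl L).1 hb
      have hu := IsLocalization.map_units L s
      apply hu.mul_right_cancel
      rw [mul_right_comm, hs, zero_mul, ← map_mul, hzP b' hb', map_zero]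
    have hf := free_of_pdLT_of_depth_zero hz0 hzm (n + 1) (L ⊗[R] (R ⧸ I))
      ((pdLT_baseChange (R := R) L (n + 1) (R ⧸ I)).1 hpd')
    let e := (Algebra.TensorProduct.quotIdealMapEquivTensorQuot L I).toLinearEquiv
    haveI : Module.Free L (L ⧸ I.map (algebraMap R L)) := Module.Free.of_equiv e.symm
    have hbot : I.map (algebraMap R L) = ⊥ := by
      haveI : Nontrivial (L ⧸ I.map (algebraMap R L)) := Ideal.Quotient.nontrivial_iff.2 (by
        intro h
        have : I.map (algebraMap R L) ≤ maximalIdeal L := by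
          rw [← IsLocalization.AtPrime.map_eq_maximalIdeal P L]
          exact Ideal.map_mono hle
        exact (maximalIdeal.isMaximal L).ne_top (eq_top_iff.2 (h ▸ this)))
      let b := Module.Free.chooseBasis L (L ⧸ I.map (algebraMap R L))
      obtain ⟨j⟩ := b.index_nonempty
      refine le_bot_iff.1 fun c hc => ?_
      have h0 : c • b j = 0 := by
        obtain ⟨w, hw⟩ := Ideal.Quotient.mk_surjective (b j)
        rw [← hw]
        show Ideal.Quotient.mk (I.map (algebraMap R L)) (c * w) = 0
        rw [Ideal.Quotient.eq_zero_iff_mem]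
        exact Ideal.mul_mem_right _ _ hc
      simpa using congrArg (fun w => b.repr w j) h0
    have hk : ∀ i, ∃ s : R, s ∉ P ∧ s * a i = 0 := by
      intro i
      have hai : algebraMap R L (a i) = 0 := by
        have h1 := Ideal.mem_map_of_mem (algebraMap R L)
          (hspan ▸ Ideal.subset_span ⟨i, rfl⟩ : a i ∈ I)
        rwa [hbot, Ideal.mem_bot] at h1
      obtain ⟨m, hm⟩ := (IsLocalization.map_eq_zero_iff P.primeCompl L (a i)).1 hai
      exact ⟨m, m.2, hm⟩
    obtain ⟨i⟩ := ‹Nonempty ι›
    obtain ⟨s, hs, hsa⟩ := hk i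
    have := hind (Pi.single i s) (by simp [Pi.single_apply, hsa]) i
    rw [Pi.single_eq_same] at this
    exact hs (hle this)
  have hav : ¬ ((I : Set R) ⊆ ⋃ i ∈ (↑(insert (maximalIdeal R * I) hfin.toFinset) : Set (Ideal R)), (i : Set R)) := by
    rw [Ideal.subset_union_prime (f := fun i : Ideal R => i) (maximalIdeal R * I) (maximalIdeal R * I)]
    · rintro ⟨q, hq, hle⟩
      rcases Finset.mem_insert.1 hq with rfl | hq
      · exact hsq hle
      · exact hass q ((Set.Finite.mem_toFinset _).1 hq) hle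
    · intro i hi h1 _
      exact IsAssociatedPrime.isPrime ((Set.Finite.mem_toFinset _).1 ((Finset.mem_insert.1 hi).resolve_left h1))
  obtain ⟨x, hx, hxu⟩ := Set.not_subset.1 hav
  simp only [Finset.coe_insert, Set.Finite.coe_toFinset, Set.biUnion_insert, Set.mem_union, not_or] at hxu
  refine ⟨x, hx, hxu.1, ?_⟩
  have := hxu.2
  rw [biUnion_associatedPrimes_eq_compl_nonZeroDivisors] at this
  simpa using this

theorem exists_regular_local : ∀ (k : ℕ) (R : Type u) [CommRing R] [IsLocalRing R] [IsNoetherianRing R]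
    (I : Ideal R), I ≤ maximalIdeal R → ∀ (n : ℕ),
    HasProjectiveDimensionLT (ModuleCat.of R I) (n + 1) →
    ∀ (ι : Type) [Fintype ι] (a : ι → R), Fintype.card ι = k → Ideal.span (Set.range a) = I →
      Indep I a → ∃ rs : List R, IsRegular R rs ∧ Ideal.ofList rs = I := by
  classical
  intro k
  induction k with
  | zero =>
    intro R _ _ _ I hIm n hpd ι _ a hk hspan hind
    haveI := Fintype.card_eq_zero_iff.1 hk
    refine ⟨[], ⟨IsWeaklyRegular.nil _ _, ?_⟩, ?_⟩
    · rw [Ideal.ofList_nil, Submodule.bot_smul]; exact top_ne_bot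
    · rw [← hspan]; simp [Set.range_eq_empty, Ideal.ofList_nil]
  | succ k ih =>
    intro R _ _ _ I hIm n hpd ι _ a hk hspan hind
    haveI : Nonempty ι := Fintype.card_pos_iff.1 (by omega)
    have hI : I ≠ ⊥ := by
      intro h
      obtain ⟨i⟩ := ‹Nonempty ι›
      have hai : a i = 0 := by
        have : a i ∈ I := hspan ▸ Ideal.subset_span ⟨i, rfl⟩
        simpa [h] using this
      have := hind (Pi.single i 1) (by simp [Pi.single_apply, hai]) i
      simp [h] at this
    obtain ⟨x, hxI, hxm, hxnzd⟩ := exists_nzd I hIm hI n hpd a hspan hind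
    obtain ⟨u, hu⟩ := Ideal.mem_span_range_iff_exists_fun.1 (hspan ▸ hxI : x ∈ Ideal.span (Set.range a))
    obtain ⟨j, hj⟩ : ∃ j, IsUnit (u j) := by
      by_contra h
      push_neg at h
      exact hxm (hu ▸ Ideal.sum_mem _ fun i _ =>
        Ideal.mul_mem_mul ((mem_maximalIdeal _).2 (h i)) (hspan ▸ Ideal.subset_span ⟨i, rfl⟩))
    let κ := {i : ι // i ≠ j}
    have hsplit : ∀ f : ι → R, ∑ i, f i = f j + ∑ i : κ, f i := fun f =>
      Fintype.sum_eq_add_sum_subtype_ne f j
    -- relations of `x` and the other generators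
    have hrel : ∀ (d : R) (c : κ → R), d * x + ∑ i : κ, c i * a i = 0 → d ∈ I ∧ ∀ i, c i ∈ I := by
      intro d c h
      have h2 := hind (fun i => d * u i + if h : i = j then 0 else c ⟨i, h⟩) (by
        simp only [add_mul, Finset.sum_add_distrib, mul_assoc, ← Finset.mul_sum, hu]
        rw [hsplit (fun i => (if h : i = j then 0 else c ⟨i, h⟩) * a i)]
        simp only [dite_true, zero_mul, zero_add]
        rw [← h]
        congr 1
        exact Finset.sum_congr rfl fun i _ => by rw [dif_neg i.2])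
      have hd : d ∈ I := by
        have := h2 j
        simp only [dite_true, add_zero] at this
        exact (Ideal.mul_unit_mem_iff_mem I hj).1 this
      refine ⟨hd, fun i => ?_⟩
      have := h2 i
      simp only [dif_neg i.2] at this
      exact (Ideal.add_mem_iff_right _ (I.mul_mem_right _ hd)).1 this
    let π := Ideal.Quotient.mk (Ideal.span {x})
    have hxm' : x ∈ maximalIdeal R := hIm hxI
    haveI : IsLocalRing (R ⧸ Ideal.span {x}) := isLocalRing_quotient
      (ne_top_of_le_maximalIdeal ((Ideal.span_singleton_le_iff_mem _).2 hxm'))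
    have hreg : IsSMulRegular R x := fun p q hpq => (mul_cancel_left_mem_nonZeroDivisors hxnzd).1 hpq
    have hregI : IsSMulRegular I x := fun p q hpq => Subtype.ext (hreg (congrArg Subtype.val hpq))
    haveI : Module.Finite R I := Module.Finite.iff_fg.2 (IsNoetherian.noetherian _)
    rw [pdLT_quotSMulTop hxm' hreg n _ hregI] at hpd
    -- the image ideal
    let I' : Ideal (R ⧸ Ideal.span {x}) := I.map π
    let a' : κ → R ⧸ Ideal.span {x} := fun i => π (a i)
    have haI : ∀ i, a i ∈ I := fun i => hspan ▸ Ideal.subset_span ⟨i, rfl⟩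
    have hspan' : Ideal.span (Set.range a') = I' := by
      apply le_antisymm
      · rw [Ideal.span_le]; rintro _ ⟨i, rfl⟩; exact Ideal.mem_map_of_mem π (haI i)
      · show Ideal.map π I ≤ _
        conv_lhs => rw [← hspan]
        rw [Ideal.map_span, Ideal.span_le]
        rintro _ ⟨_, ⟨i, rfl⟩, rfl⟩
        by_cases h : i = j
        · subst h
          obtain ⟨v, hv⟩ := hj.exists_left_inv
          have : a i = v * x - ∑ l : κ, v * u l * a l := by
            rw [← hu, hsplit (fun l => u l * a l), mul_add, Finset.mul_sum, ← mul_assoc, hv, one_mul]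
            simp [mul_assoc]
          show π (a i) ∈ _
          rw [this, map_sub, map_sum, map_mul, Ideal.Quotient.mk_singleton_self, mul_zero, zero_sub]
          exact neg_mem (Ideal.sum_mem _ fun l _ => by
            rw [map_mul]; exact Ideal.mul_mem_left _ _ (Ideal.subset_span ⟨l, rfl⟩))
        · exact Ideal.subset_span ⟨⟨i, h⟩, rfl⟩
    have hsurj : Function.Surjective (algebraMap R (R ⧸ Ideal.span {x})) := Ideal.Quotient.mk_surjective
    -- `I'` is a retract of `I / x I`
    let r₀ : I →ₗ[R] I' :=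
      { toFun := fun y => ⟨π y, Ideal.mem_map_of_mem π y.2⟩
        map_add' := fun p q => Subtype.ext (map_add π _ _)
        map_smul' := fun c p => Subtype.ext (by
          show π (c * p) = c • π p
          rw [map_mul, Algebra.smul_def]; rfl) }
    let r : QuotSMulTop x I →ₗ[R ⧸ Ideal.span {x}] I' :=
      (Submodule.liftQ _ r₀ (by
        rintro y hy
        obtain ⟨b, -, rfl⟩ := (Submodule.mem_smul_pointwise_iff_exists _ _ _).1 hy
        refine Subtype.ext ?_
        show π (x * b) = 0
        rw [map_mul, Ideal.Quotient.mk_singleton_self, zero_mul])).extendScalarsOfSurjective hsurj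
    let L₀ : (κ → R ⧸ Ideal.span {x}) →ₗ[R ⧸ Ideal.span {x}] QuotSMulTop x I :=
      Fintype.linearCombination (R ⧸ Ideal.span {x}) fun i : κ =>
        (Submodule.Quotient.mk (⟨a i, haI i⟩ : I) : QuotSMulTop x I)
    let L₁ : (κ → R ⧸ Ideal.span {x}) →ₗ[R ⧸ Ideal.span {x}] I' :=
      Fintype.linearCombination (R ⧸ Ideal.span {x}) fun i : κ => (⟨a' i, Ideal.mem_map_of_mem π (haI i)⟩ : I')
    have hL₁ : Function.Surjective L₁ := by
      rintro ⟨y, hy⟩
      rw [← hspan'] at hy
      obtain ⟨c, hc⟩ := Ideal.mem_span_range_iff_exists_fun.1 hy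
      exact ⟨c, Subtype.ext (by simpa [L₁, Fintype.linearCombination_apply] using hc)⟩
    have hker : LinearMap.ker L₁ ≤ LinearMap.ker L₀ := by
      intro c hc
      choose c' hc' using fun i => Ideal.Quotient.mk_surjective (c i)
      obtain rfl : (fun i => π (c' i)) = c := funext hc'
      have h0 : π (∑ i, c' i * a i) = 0 := by
        have := congrArg Subtype.val (LinearMap.mem_ker.1 hc)
        simpa [L₁, a', Fintype.linearCombination_apply] using this
      obtain ⟨d, hd⟩ := Ideal.mem_span_singleton'.1 (Ideal.Quotient.eq_zero_iff_mem.1 h0)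
      have hdI := (hrel (-d) c' (by rw [neg_mul, hd]; exact neg_add_cancel _)).1
      rw [LinearMap.mem_ker]
      show ∑ i, π (c' i) • (Submodule.Quotient.mk (⟨a i, haI i⟩ : I) : QuotSMulTop x I) = 0
      have : ∀ i, π (c' i) • (Submodule.Quotient.mk (⟨a i, haI i⟩ : I) : QuotSMulTop x I) =
          (Submodule.mkQ (x • (⊤ : Submodule R I))) (c' i • (⟨a i, haI i⟩ : I)) := fun i => rfl
      simp only [this, ← map_sum]
      rw [Submodule.mkQ_apply, Submodule.Quotient.mk_eq_zero,
        Submodule.mem_smul_pointwise_iff_exists]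
      exact ⟨⟨d, neg_mem_iff.1 hdI⟩, trivial, Subtype.ext (by simpa [mul_comm] using hd)⟩
    let i₀ : I' →ₗ[R ⧸ Ideal.span {x}] QuotSMulTop x I :=
      (Submodule.liftQ _ L₀ hker) ∘ₗ (L₁.quotKerEquivOfSurjective hL₁).symm.toLinearMap
    have hri : r ∘ₗ i₀ = LinearMap.id := by
      ext y
      obtain ⟨c, rfl⟩ := hL₁ y
      have : (L₁.quotKerEquivOfSurjective hL₁).symm (L₁ c) = Submodule.Quotient.mk c := by
        rw [LinearEquiv.symm_apply_eq]; rfl
      show ((r (Submodule.liftQ _ L₀ hker ((L₁.quotKerEquivOfSurjective hL₁).symm (L₁ c)))) :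
        R ⧸ Ideal.span {x}) = (L₁ c : R ⧸ Ideal.span {x})
      rw [this, Submodule.liftQ_apply]
      simp only [L₀, L₁, Fintype.linearCombination_apply, map_sum, map_smul]
      rfl
    have hpd' : HasProjectiveDimensionLT (ModuleCat.of (R ⧸ Ideal.span {x}) I') (n + 1) :=
      (Retract.mk (ModuleCat.ofHom i₀) (ModuleCat.ofHom r)
        (ModuleCat.hom_ext hri)).hasProjectiveDimensionLT (n + 1)
    have hind' : Indep I' a' := by
      intro c hc i
      choose c' hc' using fun i => Ideal.Quotient.mk_surjective (c i)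
      obtain rfl : (fun i => π (c' i)) = c := funext hc'
      have h0 : π (∑ i, c' i * a i) = 0 := by simpa [a'] using hc
      obtain ⟨d, hd⟩ := Ideal.mem_span_singleton'.1 (Ideal.Quotient.eq_zero_iff_mem.1 h0)
      exact Ideal.mem_map_of_mem π ((hrel (-d) c' (by rw [neg_mul, hd]; exact neg_add_cancel _)).2 i)
    have hI'm : I' ≤ maximalIdeal _ := le_maximalIdeal (by
      intro h
      have h1 : (1 : R ⧸ Ideal.span {x}) ∈ I' := by rw [h]; trivial
      obtain ⟨y, hy, hy1⟩ := (Ideal.mem_map_iff_of_surjective π Ideal.Quotient.mk_surjective).1 h1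
      rw [← map_one π, Ideal.Quotient.mk_eq_mk_iff_sub_mem] at hy1
      have h2 : (1 : R) ∈ I := by
        have := sub_mem hy ((Ideal.span_singleton_le_iff_mem I).2 hxI hy1)
        simpa using this
      exact (maximalIdeal.isMaximal R).ne_top ((Ideal.eq_top_iff_one _).2 (hIm h2)))
    have hcard : Fintype.card κ = k := by simp [κ, hk]
    obtain ⟨rs, hrs, hofl⟩ := ih (R ⧸ Ideal.span {x}) I' hI'm n hpd' κ a' hcard hspan' hind'
    have hlift : ∀ rs : List (R ⧸ Ideal.span {x}), ∃ l : List R, l.map π = rs := fun rs =>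
      List.map_surjective_iff.2 Ideal.Quotient.mk_surjective rs
    obtain ⟨l, rfl⟩ := hlift rs
    refine ⟨x :: l, (RegSeq.SameSpan.isRegular_cons_iff_quotient x l).2 ⟨hreg, hrs⟩, ?_⟩
    rw [Ideal.ofList_cons]
    rw [← Ideal.map_ofList] at hofl
    have := congrArg (Ideal.comap π) hofl
    rwa [Ideal.comap_map_of_surjective π Ideal.Quotient.mk_surjective,
      Ideal.comap_map_of_surjective π Ideal.Quotient.mk_surjective, ← RingHom.ker_eq_comap_bot,
      Ideal.mk_ker, sup_comm, sup_eq_left.2 ((Ideal.span_singleton_le_iff_mem I).2 hxI)] at this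

/-- spreading out regular sequences -/
theorem spread_out {R : Type u} [CommRing R] [IsNoetherianRing R] (I p : Ideal R) [p.IsPrime]
    (hIp : I ≤ p) (rs : List R) (hmem : ∀ r ∈ rs, r ∈ I)
    (hreg : IsWeaklyRegular (Localization.AtPrime p) (rs.map (algebraMap R (Localization.AtPrime p))))
    (hgen : I.map (algebraMap R (Localization.AtPrime p)) =
      Ideal.ofList (rs.map (algebraMap R (Localization.AtPrime p)))) :
    ∃ g : R, g ∉ p ∧ IsRegular (Localization.Away g) (rs.map (algebraMap R (Localization.Away g))) ∧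
        Ideal.ofList (rs.map (algebraMap R (Localization.Away g))) =
          I.map (algebraMap R (Localization.Away g)) := by
  classical
  let L := Localization.AtPrime p
  have key : ∀ (K J : Ideal R), (∀ y ∈ K, algebraMap R L y ∈ J.map (algebraMap R L)) →
      ∃ s : R, s ∉ p ∧ ∀ y ∈ K, s * y ∈ J := by
    intro K J h
    obtain ⟨t, ht⟩ := IsNoetherian.noetherian K
    have h' : ∀ y : t, ∃ s : R, s ∉ p ∧ s * (y : R) ∈ J := fun y => by
      obtain ⟨s, hs, hs'⟩ := (IsLocalization.algebraMap_mem_map_algebraMap_iff p.primeCompl L J y.1).1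
        (h y.1 (ht ▸ Submodule.subset_span y.2))
      exact ⟨s, hs, hs'⟩
    choose s hs hsJ using h'
    have hsub : ∀ y ∈ (t : Set R), (∏ i, s i) * y ∈ J := fun y hy => by
      rw [← Finset.prod_erase_mul _ _ (Finset.mem_univ (⟨y, hy⟩ : t)), mul_assoc]
      exact Ideal.mul_mem_left _ _ (hsJ ⟨y, hy⟩)
    refine ⟨∏ i, s i, fun hc => ?_, fun y hy => ?_⟩
    · obtain ⟨i, -, hi⟩ := Ideal.IsPrime.prod_mem_iff.1 hc
      exact hs i hi
    · rw [← ht] at hy
      refine Submodule.span_induction (fun z hz => hsub z hz) (by simp) ?_ ?_ hy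
      · intro a b _ _ ha hb; rw [mul_add]; exact add_mem ha hb
      · intro a b _ hb; rw [smul_eq_mul, mul_left_comm]; exact Ideal.mul_mem_left _ _ hb
  let J : ℕ → Ideal R := fun i => Ideal.ofList (rs.take i)
  have hJmap : ∀ (S : Type u) [CommRing S] [Algebra R S] (i : ℕ),
      Ideal.ofList ((rs.map (algebraMap R S)).take i) • (⊤ : Ideal S) = (J i).map (algebraMap R S) := by
    intro S _ _ i
    rw [smul_eq_mul, Ideal.mul_top, Ideal.map_ofList, List.map_take]
  have hi : ∀ i : Fin rs.length, ∃ s : R, s ∉ p ∧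
      ∀ y ∈ (Submodule.comap (LinearMap.mulLeft R (rs[(i : ℕ)] : R)) (J i) : Ideal R), s * y ∈ J i := by
    intro i
    apply key
    intro y hy
    have hy' : rs[(i : ℕ)] * y ∈ J i := hy
    have h1 := hreg.regular_mod_prev i (by simp)
    rw [hJmap] at h1
    rw [← Submodule.Quotient.mk_eq_zero]
    apply h1.right_eq_zero_of_smul
    rw [← Submodule.Quotient.mk_smul, Submodule.Quotient.mk_eq_zero, List.getElem_map,
      smul_eq_mul, ← map_mul]
    exact Ideal.mem_map_of_mem _ hy'
  choose s hs hsJ using hi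
  obtain ⟨s₀, hs₀, hs₀J⟩ := key I (Ideal.ofList rs) (fun y hy => by
    rw [Ideal.map_ofList, ← hgen]; exact Ideal.mem_map_of_mem _ hy)
  refine ⟨s₀ * ∏ i, s i, ?_, ?_⟩
  · intro hc
    rcases (Ideal.IsPrime.mem_or_mem ‹p.IsPrime› hc) with h | h
    · exact hs₀ h
    · obtain ⟨i, -, hi⟩ := Ideal.IsPrime.prod_mem_iff.1 h; exact hs i hi
  set g := s₀ * ∏ i, s i with hg
  let A := Localization.Away g
  have hgu : IsUnit (algebraMap R A g) := IsLocalization.Away.algebraMap_isUnit g
  have hsu : ∀ i, IsUnit (algebraMap R A (s i)) := fun i =>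
    isUnit_of_dvd_unit (map_dvd _ (dvd_mul_of_dvd_right (Finset.dvd_prod_of_mem s (Finset.mem_univ i)) s₀)) hgu
  have hs₀u : IsUnit (algebraMap R A s₀) := isUnit_of_dvd_unit (map_dvd _ (dvd_mul_right _ _)) hgu
  have heq : Ideal.ofList (rs.map (algebraMap R A)) = I.map (algebraMap R A) := by
    rw [← Ideal.map_ofList]
    apply le_antisymm (Ideal.map_mono (Ideal.span_le.2 hmem))
    rw [Ideal.map_le_iff_le_comap]
    intro y hy
    have := Ideal.mem_map_of_mem (algebraMap R A) (hs₀J y hy)
    rw [map_mul] at this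
    exact (Ideal.unit_mul_mem_iff_mem _ hs₀u).1 this
  refine ⟨⟨⟨fun i hi => ?_⟩, ?_⟩, heq⟩
  · rw [List.length_map] at hi
    rw [hJmap]
    refine IsSMulRegular.of_right_eq_zero_of_smul fun q hq => ?_
    obtain ⟨z, rfl⟩ := Submodule.Quotient.mk_surjective _ q
    rw [← Submodule.Quotient.mk_smul, Submodule.Quotient.mk_eq_zero, List.getElem_map, smul_eq_mul] at hq
    rw [Submodule.Quotient.mk_eq_zero]
    obtain ⟨⟨w, m⟩, hw⟩ := IsLocalization.surj (Submonoid.powers g) z
    have hmu := IsLocalization.map_units A m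
    have h2 : algebraMap R A (rs[i] * w) ∈ (J i).map (algebraMap R A) := by
      rw [map_mul, ← hw, ← mul_assoc]; exact Ideal.mul_mem_right _ _ hq
    obtain ⟨t, ht, ht'⟩ := (IsLocalization.algebraMap_mem_map_algebraMap_iff (Submonoid.powers g) A _ _).1 h2
    have h3 : t * w ∈ (Submodule.comap (LinearMap.mulLeft R (rs[i] : R)) (J i) : Ideal R) := by
      show rs[i] * (t * w) ∈ J i
      rwa [mul_left_comm]
    have h4 := Ideal.mem_map_of_mem (algebraMap R A) (hsJ ⟨i, hi⟩ _ h3)
    rw [map_mul, map_mul, Ideal.unit_mul_mem_iff_mem _ (hsu _),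
      Ideal.unit_mul_mem_iff_mem _ (IsLocalization.map_units A ⟨t, ht⟩)] at h4
    rw [← Ideal.mul_unit_mem_iff_mem _ hmu, hw]
    exact h4
  · rw [smul_eq_mul, Ideal.mul_top, heq]
    intro htop
    have h1 : algebraMap R A 1 ∈ I.map (algebraMap R A) := by rw [map_one, ← htop]; trivial
    obtain ⟨t, ⟨m, rfl⟩, ht⟩ := (IsLocalization.algebraMap_mem_map_algebraMap_iff (Submonoid.powers g) A _ _).1 h1
    rw [mul_one] at ht
    have hgp : g ∈ p := ‹p.IsPrime›.mem_of_pow_mem m (hIp ht)
    rcases (Ideal.IsPrime.mem_or_mem ‹p.IsPrime› hgp) with h | h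
    · exact hs₀ h
    · obtain ⟨i, -, hi⟩ := Ideal.IsPrime.prod_mem_iff.1 h; exact hs i hi

end Groth.Agent.LeadFV

namespace Groth.Agent.LeadFV

/-- extension of an ideal to a flat algebra -/
noncomputable def tensorIdealEquiv {R : Type u} [CommRing R] (I : Ideal R) (L : Type u) [CommRing L] [Algebra R L]
    [Module.Flat R L] : L ⊗[R] I ≃ₗ[L] (I.map (algebraMap R L) : Ideal L) := by
  let h : L ⊗[R] I →ₗ[L] L :=
    (TensorProduct.AlgebraTensorModule.rid R L L).toLinearMap ∘ₗ (I.subtype.baseChange L)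
  have hinj : Function.Injective h :=
    (TensorProduct.AlgebraTensorModule.rid R L L).injective.comp
      (Module.Flat.lTensor_preserves_injective_linearMap _ I.injective_subtype)
  have hh : ∀ (l : L) (i : I), h (l ⊗ₜ i) = algebraMap R L i * l := fun l i => by
    simp [h, Algebra.smul_def]
  have hr : LinearMap.range h = I.map (algebraMap R L) := by
    apply le_antisymm
    · rintro _ ⟨t, rfl⟩
      induction t using TensorProduct.induction_on with
      | zero => simp
      | tmul l i => rw [hh]; exact Ideal.mul_mem_right _ _ (Ideal.mem_map_of_mem _ i.2)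
      | add a b ha hb => rw [map_add]; exact add_mem ha hb
    · refine Ideal.map_le_iff_le_comap.2 fun i hi => ?_
      exact ⟨1 ⊗ₜ[R] (⟨i, hi⟩ : I), by rw [hh, mul_one]⟩
  exact (LinearEquiv.ofInjective h hinj).trans (LinearEquiv.ofEq _ _ hr)

lemma weaklyRegular_unit_mul {L : Type u} [CommRing L] (l₁ l₂ : List L)
    (h : List.Forall₂ (fun a b => ∃ u, IsUnit u ∧ a * u = b) l₁ l₂) :
    Ideal.ofList l₁ = Ideal.ofList l₂ ∧ (IsWeaklyRegular L l₁ → IsWeaklyRegular L l₂) := by
  have hspan : ∀ {a b : List L}, List.Forall₂ (fun a b => ∃ u, IsUnit u ∧ a * u = b) a b →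
      Ideal.ofList a = Ideal.ofList b := by
    intro a b hab
    induction hab with
    | nil => rfl
    | cons hu _ ih =>
      obtain ⟨u, hu, rfl⟩ := hu
      rw [Ideal.ofList_cons, Ideal.ofList_cons, ih, Ideal.span_singleton_mul_right_unit hu]
  refine ⟨hspan h, fun hw => ⟨fun i hi => ?_⟩⟩
  have hlen := h.length_eq
  obtain ⟨u, hu, hui⟩ := (List.forall₂_iff_get.1 h).2 i (hlen ▸ hi) hi
  have h1 := hw.regular_mod_prev i (hlen ▸ hi)
  rw [hspan (List.forall₂_take i h)] at h1
  have e : l₂[i] = l₁[i] * u := hui.symm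
  rw [e]
  exact h1.mul (hu.isSMulRegular _)

theorem exists_spread {R : Type u} [CommRing R] [IsNoetherianRing R] (I p : Ideal R) [p.IsPrime]
    (hIp : I ≤ p) (rs' : List (Localization.AtPrime p)) (hreg : IsWeaklyRegular (Localization.AtPrime p) rs')
    (hgen : Ideal.ofList rs' = I.map (algebraMap R (Localization.AtPrime p)))
    (hrep : ∀ r ∈ rs', ∃ y : R, ∃ u : p.primeCompl, y ∈ I ∧
      r * algebraMap R (Localization.AtPrime p) u = algebraMap R (Localization.AtPrime p) y) :
    ∃ g : R, g ∉ p ∧ ∃ rs : List (Localization.Away g), IsRegular (Localization.Away g) rs ∧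
        Ideal.ofList rs = I.map (algebraMap R (Localization.Away g)) := by
  have key : ∀ l : List (Localization.AtPrime p), (∀ r ∈ l, ∃ y : R, ∃ u : p.primeCompl, y ∈ I ∧
      r * algebraMap R (Localization.AtPrime p) u = algebraMap R (Localization.AtPrime p) y) →
      ∃ rs : List R, (∀ r ∈ rs, r ∈ I) ∧ List.Forall₂ (fun a b => ∃ u, IsUnit u ∧ a * u = b) l
        (rs.map (algebraMap R (Localization.AtPrime p))) := by
    intro l
    induction l with
    | nil => exact fun _ => ⟨[], by simp, by simp⟩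
    | cons r l ih =>
      intro h
      obtain ⟨y, u, hy, hu⟩ := h r (by simp)
      obtain ⟨rs, h1, h2⟩ := ih fun s hs => h s (by simp [hs])
      exact ⟨y :: rs, by simp [hy]; exact h1, List.Forall₂.cons ⟨_, IsLocalization.map_units _ u, hu⟩ h2⟩
  obtain ⟨rs, hmem, hF⟩ := key rs' hrep
  obtain ⟨he, hw⟩ := weaklyRegular_unit_mul _ _ hF
  obtain ⟨g, hg, h1, h2⟩ := spread_out I p hIp rs hmem (hw hreg) (hgen.symm.trans he)
  exact ⟨g, hg, _, h1, h2⟩

end Groth.Agent.LeadFV
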